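import Cfsg.Agent.H488.PsuTwo
import Cfsg.Agent.ClassicalGeometry.UnitTransv

/-!
# The points of the 2-transitive action of `PSU₃(q)` as isotropic vectors (helper621)
-/

set_option autoImplicit false
set_option linter.unusedSectionVars false

namespace Cfsg.Agent.H621.HalfT.Psu

open MulAction Matrix Cfsg Cfsg.Agent.H96.TISylow Cfsg.Agent.LieClassical.HermBasic Cfsg.Agent.H488.PsuTwo

variable {T : Type*} [Group T] [Finite T] {F : Type*} [Field F] [Fintype F] {q : ℕ}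

/-- the point `a` belongs to the isotropic vector `v` -/
structure At (e : T ≃* PSU 3 F q) {Ω : Type*} [MulAction T Ω] (v : Fin 3 → F) (a : Ω) : Prop where
  ne : v ≠ 0
  iso : hermForm 3 F q v v = 0
  iff : ∀ g : SU 3 F q, pi e g • a = a ↔ ∃ c : F, g.1.1 *ᵥ v = c • v

theorem mv (x y : SU 3 F q) (z : Fin 3 → F) : (x * y).1.1 *ᵥ z = x.1.1 *ᵥ (y.1.1 *ᵥ z) := by
  rw [mulVec_mulVec]; rfl

theorem mv_inv {x : SU 3 F q} {z z' : Fin 3 → F} (hx : x.1.1 *ᵥ z = z') : x⁻¹.1.1 *ᵥ z' = z := by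
  rw [← hx, ← mv, inv_mul_cancel]
  exact one_mulVec z

theorem mv_ne {x : SU 3 F q} {z : Fin 3 → F} (hz : z ≠ 0) : x.1.1 *ᵥ z ≠ 0 := by
  intro h
  apply hz
  have h1 := mv_inv h
  rw [mulVec_zero] at h1
  exact h1.symm

theorem eig_ne {x : SU 3 F q} {z : Fin 3 → F} (hz : z ≠ 0) {c : F} (h : x.1.1 *ᵥ z = c • z) : c ≠ 0 := by
  rintro rfl
  rw [zero_smul] at h
  exact mv_ne hz h

theorem eig_inv {x : SU 3 F q} {z : Fin 3 → F} (hz : z ≠ 0) {c : F} (h : x.1.1 *ᵥ z = c • z) :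
    x⁻¹.1.1 *ᵥ z = c⁻¹ • z := by
  have h1 := mv_inv h
  rw [mulVec_smul] at h1
  rw [← h1, smul_smul, inv_mul_cancel₀ (eig_ne hz h), one_smul, h1]

theorem vstab_norm {v : Fin 3 → F} (hv : v ≠ 0) {g : SU 3 F q} {c : F} (h : g.1.1 *ᵥ v = c • v) {u : SU 3 F q}
    (hu : u ∈ vstab (SU 3 F q) v) : g * u * g⁻¹ ∈ vstab (SU 3 F q) v := by
  rw [mem_vstab] at hu ⊢
  rw [mv, mv, eig_inv hv h, mulVec_smul, hu, mulVec_smul, h, smul_smul, inv_mul_cancel₀ (eig_ne hv h), one_smul]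

/-- two isotropic vectors which are not proportional are not orthogonal -/
theorem herm_ne {v w : Fin 3 → F} (hF : Fintype.card F = q ^ 2) (hv : v ≠ 0) (hvv : hermForm 3 F q v v = 0)
    (hww : hermForm 3 F q w w = 0) (h : ¬ ∃ c : F, w = c • v) : hermForm 3 F q w v ≠ 0 :=
  fun h0 => h (prop_of_isotropic hF hv hvv hww h0)

variable {p : ℕ} [hp : Fact p.Prime] [CharP F p]

/-- `vstab v ≠ ⊥` -/
theorem vstab_ne (hF : Fintype.card F = q ^ 2) {v : Fin 3 → F} (hv : v ≠ 0) (hvv : hermForm 3 F q v v = 0) :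
    vstab (SU 3 F q) v ≠ ⊥ := by
  obtain ⟨c, hc0, hc⟩ := exists_trace_zero_ne hF
  obtain ⟨x, hx⟩ := exists_herm_ne_zero hF hv
  intro h
  have h1 : ClassicalGeometry.UnitTransv.utv hF v c hvv hc ∈ vstab (SU 3 F q) v := by
    rw [mem_vstab]
    have := ClassicalGeometry.UnitTransv.act_utv hF hvv hc v
    rw [hvv, mul_zero, zero_smul, add_zero] at this
    exact this
  rw [h, Subgroup.mem_bot] at h1
  have h2 := ClassicalGeometry.UnitTransv.act_utv hF hvv hc x
  rw [h1] at h2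
  have h3 : x = x + (c * hermForm 3 F q x v) • v := by
    refine Eq.trans ?_ h2
    exact (one_mulVec x).symm
  have h4 : (c * hermForm 3 F q x v) • v = 0 := by
    have := congrArg (fun y => y - x) h3
    simpa using this.symm
  rcases smul_eq_zero.1 h4 with h5 | h5
  · rcases mul_eq_zero.1 h5 with h6 | h6
    · exact hc0 h6
    · rw [herm_swap hF, pow_q_eq_zero hF] at h6
      exact hx h6
  · exact hv h5

/-- an element fixing an isotropic vector and the line of another one fixes the other one; so `vstab v` moves the lines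
of the other isotropic vectors -/
theorem prop_of_vstab (hF : Fintype.card F = q ^ 2) {v w : Fin 3 → F} (hv : v ≠ 0) (hvv : hermForm 3 F q v v = 0)
    (hw : w ≠ 0) (hww : hermForm 3 F q w w = 0)
    (h : ∀ u ∈ vstab (SU 3 F q) v, ∃ c : F, u.1.1 *ᵥ w = c • w) : ∃ c : F, w = c • v := by
  by_contra hcon
  have h0 := herm_ne hF hv hvv hww hcon
  apply vstab_ne hF hv hvv
  rw [eq_bot_iff]
  intro u hu
  obtain ⟨c, hc⟩ := h u hu
  rw [Subgroup.mem_bot]
  rw [mem_vstab] at hu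
  have h1 : hermForm 3 F q (u.1.1 *ᵥ w) (u.1.1 *ᵥ v) = hermForm 3 F q w v := herm_map u.2 w v
  rw [hc, hu, herm_smul_left] at h1
  have h2 : c = 1 := by
    have : (c - 1) * hermForm 3 F q w v = 0 := by rw [sub_mul, h1, one_mul, sub_self]
    rcases mul_eq_zero.1 this with h3 | h3
    · exact sub_eq_zero.1 h3
    · exact absurd h3 h0
  rw [h2, one_smul] at hc
  exact Subtype.ext (su_three_eq_one hF u.2 hw hv hww hvv hc hu h0)

theorem sylow_eq {P Q : Sylow p T} (h : Subgroup.normalizer ((P : Subgroup T) : Set T) =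
    Subgroup.normalizer ((Q : Subgroup T) : Set T)) : P = Q := by
  have h1 : (P : Subgroup T) ≤ Subgroup.normalizer ((Q : Subgroup T) : Set T) := h ▸ Subgroup.le_normalizer
  have h2 := (inf_eq_left.2 h1).symm.trans (IsPGroup.inf_normalizer_sylow P.2 Q)
  apply Sylow.ext
  exact (P.3 Q.2 (inf_eq_left.1 h2.symm)).symm

/-- lifts of the Sylow normaliser normalise -/
theorem lift_norm (hF : Fintype.card F = q ^ 2) (e : T ≃* PSU 3 F q) (R : Sylow p (SU 3 F q)) (g : SU 3 F q)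
    (hg : pi e g ∈ Subgroup.normalizer (((R.mapSurjective (pi_surj e) : Sylow p T) : Subgroup T) : Set T)) :
    ∀ u ∈ (R : Subgroup (SU 3 F q)), g * u * g⁻¹ ∈ (R : Subgroup (SU 3 F q)) := by
  intro u hu
  have hfin : Finite (SU 3 F q) := inferInstance
  have h1 : pi e (g * u * g⁻¹) ∈ ((R.mapSurjective (pi_surj e) : Sylow p T) : Subgroup T) := by
    rw [map_mul, map_mul, map_inv]
    apply (Subgroup.mem_normalizer_iff.1 hg _).1
    rw [Sylow.coe_mapSurjective]
    exact ⟨u, hu, rfl⟩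
  rw [Sylow.coe_mapSurjective] at h1
  obtain ⟨w, hw, hwg⟩ := h1
  obtain ⟨k, hk⟩ := R.2 ⟨u, hu⟩
  obtain ⟨m, hm⟩ := R.2 ⟨w, hw⟩
  have hk' : u ^ p ^ k = 1 := congrArg Subtype.val hk
  have h2 : (g * u * g⁻¹) ^ p ^ k = 1 := by rw [conj_pow, hk', mul_one, mul_inv_cancel]
  rw [← eq_of_pi (p := p) hF hwg (congrArg Subtype.val hm) h2]
  exact hw

variable {Ω : Type*} [Finite Ω] [MulAction T Ω]

/-- a point whose stabiliser is the normaliser of a Sylow subgroup `vstab v` -/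
theorem at_of_sylow (hF : Fintype.card F = q ^ 2) (e : T ≃* PSU 3 F q) {a : Ω} {R : Sylow p (SU 3 F q)}
    {v : Fin 3 → F} (hv : v ≠ 0) (hvv : hermForm 3 F q v v = 0) (hRv : (R : Subgroup (SU 3 F q)) = vstab (SU 3 F q) v)
    (ha : stabilizer T a =
      Subgroup.normalizer (((R.mapSurjective (pi_surj e) : Sylow p T) : Subgroup T) : Set T)) : At e v a := by
  have hfin : Finite (SU 3 F q) := inferInstance
  refine ⟨hv, hvv, fun g => ?_⟩
  rw [← MulAction.mem_stabilizer_iff, ha]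
  constructor
  · intro h
    refine normalizer_fix hF hv hvv (vstab_ne hF hv hvv) ?_
    have := lift_norm hF e R g h
    rwa [hRv] at this
  · rintro ⟨c, hc⟩
    have hci := eig_inv hv hc
    rw [Subgroup.mem_normalizer_iff]
    have key : ∀ (g : SU 3 F q) (c : F), g.1.1 *ᵥ v = c • v → ∀ n, n ∈ (R : Subgroup (SU 3 F q)).map (pi e) →
        pi e g * n * (pi e g)⁻¹ ∈ (R : Subgroup (SU 3 F q)).map (pi e) := by
      rintro g c hc _ ⟨u, hu, rfl⟩
      refine ⟨g * u * g⁻¹, ?_, by rw [map_mul, map_mul, map_inv]⟩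
      rw [hRv] at hu ⊢
      exact vstab_norm hv hc hu
    intro n
    refine ⟨fun hn => ?_, fun hn => ?_⟩
    · rw [Sylow.coe_mapSurjective] at hn ⊢
      exact key g c hc n hn
    · rw [Sylow.coe_mapSurjective] at hn ⊢
      have h1 := key g⁻¹ _ hci _ hn
      rw [map_inv] at h1
      have h2 : (pi e g)⁻¹ * (pi e g * n * (pi e g)⁻¹) * (pi e g)⁻¹⁻¹ = n := by group
      rwa [h2] at h1

/-- a point whose stabiliser is a Sylow normaliser has a vector -/
theorem exists_at (hF : Fintype.card F = q ^ 2) (hq : 2 ≤ q) (e : T ≃* PSU 3 F q) (hs : IsSimpleGroup T) {a : Ω}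
    {P : Sylow p T} (ha : stabilizer T a = Subgroup.normalizer ((P : Subgroup T) : Set T)) : ∃ v, At e v a := by
  have hfin : Finite (SU 3 F q) := inferInstance
  obtain ⟨-, -, hbot⟩ := card_sylow (p := p) hF hq e hs
  obtain ⟨R, rfl⟩ := Sylow.mapSurjective_surjective (pi_surj e) p P
  have hR : (R : Subgroup (SU 3 F q)) ≠ ⊥ := by
    intro h
    apply hbot (R.mapSurjective (pi_surj e))
    rw [Sylow.coe_mapSurjective, h, Subgroup.map_bot]
  obtain ⟨v, hv, hvv, hRv⟩ := exists_vec hF R hR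
  exact ⟨v, at_of_sylow hF e hv hvv hRv ha⟩

/-- the points are the Sylow subgroups -/
theorem exists_sylow [IsPretransitive T Ω] (hF : Fintype.card F = q ^ 2) (hq : 2 ≤ q) (e : T ≃* PSU 3 F q)
    (hs : IsSimpleGroup T) (hn : Nat.card Ω = q ^ 3 + 1) :
    ∃ f : Sylow p T → Ω, Function.Bijective f ∧
      ∀ P : Sylow p T, stabilizer T (f P) = Subgroup.normalizer ((P : Subgroup T) : Set T) := by
  choose f hf using exists_point (p := p) (Ω := Ω) hF hq e hs hn
  refine ⟨f, ?_, hf⟩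
  have hinj : Function.Injective f := by
    intro P Q h
    apply sylow_eq
    rw [← hf, ← hf, h]
  obtain ⟨-, hN, -⟩ := card_sylow (p := p) hF hq e hs
  exact hinj.bijective_of_nat_card_le (by rw [hn, hN])

/-- every point has a vector -/
theorem exists_at' [IsPretransitive T Ω] (hF : Fintype.card F = q ^ 2) (hq : 2 ≤ q) (e : T ≃* PSU 3 F q)
    (hs : IsSimpleGroup T) (hn : Nat.card Ω = q ^ 3 + 1) (x : Ω) : ∃ v, At e v x := by
  obtain ⟨p, hch⟩ := CharP.exists F
  have hp : Fact p.Prime := ⟨CharP.char_is_prime F p⟩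
  obtain ⟨f, hf, hst⟩ := exists_sylow (p := p) (Ω := Ω) hF hq e hs hn
  obtain ⟨P, rfl⟩ := hf.2 x
  exact exists_at hF hq e hs (hst P)

/-- the point is determined by its stabiliser -/
theorem eq_of_stab [IsPretransitive T Ω] (hF : Fintype.card F = q ^ 2) (hq : 2 ≤ q) (e : T ≃* PSU 3 F q)
    (hs : IsSimpleGroup T) (hn : Nat.card Ω = q ^ 3 + 1) {x y : Ω} (h : stabilizer T x = stabilizer T y) : x = y := by
  obtain ⟨p, hch⟩ := CharP.exists F
  have hp : Fact p.Prime := ⟨CharP.char_is_prime F p⟩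
  obtain ⟨f, hf, hst⟩ := exists_sylow (p := p) (Ω := Ω) hF hq e hs hn
  obtain ⟨P, rfl⟩ := hf.2 x
  obtain ⟨Q, rfl⟩ := hf.2 y
  rw [hst, hst] at h
  rw [sylow_eq h]

/-- the vector determines the point -/
theorem At.unique [IsPretransitive T Ω] {e : T ≃* PSU 3 F q} {v : Fin 3 → F} {x y : Ω} (hx : At e v x) (hy : At e v y)
    (hF : Fintype.card F = q ^ 2) (hq : 2 ≤ q) (hs : IsSimpleGroup T) (hn : Nat.card Ω = q ^ 3 + 1) : x = y := by
  apply eq_of_stab hF hq e hs hn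
  ext t
  obtain ⟨g, rfl⟩ := pi_surj e t
  rw [MulAction.mem_stabilizer_iff, MulAction.mem_stabilizer_iff, hx.iff, hy.iff]

omit [Finite Ω] in
theorem At.smul {e : T ≃* PSU 3 F q} {v : Fin 3 → F} {x : Ω} (hx : At e v x) {c : F} (hc : c ≠ 0) :
    At e (c • v) x := by
  refine ⟨smul_ne_zero hc hx.ne, ?_, fun g => ?_⟩
  · rw [herm_smul_left, herm_smul_right, hx.iso, mul_zero, mul_zero]
  · rw [hx.iff]
    constructor
    · rintro ⟨d, hd⟩
      exact ⟨d, by rw [mulVec_smul, hd, smul_comm]⟩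
    · rintro ⟨d, hd⟩
      refine ⟨d, ?_⟩
      rw [mulVec_smul, smul_comm] at hd
      exact smul_right_injective _ hc hd

omit [Finite Ω] in
theorem At.act {e : T ≃* PSU 3 F q} {v : Fin 3 → F} {x : Ω} (hx : At e v x) (g : SU 3 F q) :
    At e (g.1.1 *ᵥ v) (pi e g • x) := by
  refine ⟨mv_ne hx.ne, by rw [herm_map g.2, hx.iso], fun h => ?_⟩
  have h1 : pi e h • pi e g • x = pi e g • x ↔ pi e (g⁻¹ * h * g) • x = x := by
    rw [map_mul, map_mul, map_inv, mul_smul, mul_smul, inv_smul_eq_iff]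
  rw [h1, hx.iff]
  constructor
  · rintro ⟨c, hc⟩
    refine ⟨c, ?_⟩
    rw [mv, mv] at hc
    have h2 := congrArg (fun z => g.1.1 *ᵥ z) hc
    simp only [mulVec_smul] at h2
    have h3 : g.1.1 *ᵥ (g⁻¹.1.1 *ᵥ (h.1.1 *ᵥ (g.1.1 *ᵥ v))) = h.1.1 *ᵥ (g.1.1 *ᵥ v) := by
      rw [← mv g g⁻¹, mul_inv_cancel]
      exact one_mulVec _
    exact h3.symm.trans h2
  · rintro ⟨c, hc⟩
    refine ⟨c, ?_⟩
    rw [mv, mv, hc, mulVec_smul]
    congr 1
    exact mv_inv rfl

/-- different vectors of the same point are proportional -/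
theorem At.prop (hF : Fintype.card F = q ^ 2) {e : T ≃* PSU 3 F q} {v w : Fin 3 → F} {x : Ω} (hv : At e v x)
    (hw : At e w x) : ∃ c : F, w = c • v := by
  refine prop_of_vstab hF hv.ne hv.iso hw.ne hw.iso ?_
  intro u hu
  rw [← hw.iff, hv.iff]
  exact ⟨1, by rw [one_smul]; exact mem_vstab.1 hu⟩

/-- every isotropic vector has a point -/
theorem exists_of_vec [IsPretransitive T Ω] (hF : Fintype.card F = q ^ 2) (hq : 2 ≤ q) (e : T ≃* PSU 3 F q)
    (hs : IsSimpleGroup T) (hn : Nat.card Ω = q ^ 3 + 1) {u : Fin 3 → F} (hu : u ≠ 0)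
    (huu : hermForm 3 F q u u = 0) : ∃ x : Ω, At e u x := by
  obtain ⟨p, hch⟩ := CharP.exists F
  have hp : Fact p.Prime := ⟨CharP.char_is_prime F p⟩
  have hfin : Finite (SU 3 F q) := inferInstance
  obtain ⟨f, hf, hst⟩ := exists_sylow (p := p) (Ω := Ω) hF hq e hs hn
  obtain ⟨R, hR⟩ := (isPGroup_vstab_three (p := p) hF hu huu).exists_le_sylow
  have hR1 : (R : Subgroup (SU 3 F q)) ≠ ⊥ := by
    intro h
    rw [h, le_bot_iff] at hR
    exact vstab_ne hF hu huu hR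
  obtain ⟨v, hv, hvv, hRv⟩ := exists_vec hF R hR1
  have h1 : At e v (f (R.mapSurjective (pi_surj e))) := at_of_sylow hF e hv hvv hRv (hst _)
  refine ⟨f (R.mapSurjective (pi_surj e)), ?_⟩
  obtain ⟨c, hc⟩ : ∃ c : F, v = c • u := by
    refine prop_of_vstab hF hu huu hv hvv ?_
    intro g hg
    refine ⟨1, ?_⟩
    have h2 := hR hg
    rw [hRv, mem_vstab] at h2
    rw [one_smul, h2]
  have hc0 : c ≠ 0 := by
    rintro rfl
    rw [zero_smul] at hc
    exact hv hc
  have h3 : u = c⁻¹ • v := by rw [hc, smul_smul, inv_mul_cancel₀ hc0, one_smul]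
  rw [h3]
  exact h1.smul (inv_ne_zero hc0)

end Cfsg.Agent.H621.HalfT.Psu
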