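import Cfsg.Agent.H621.Half.Clash
import Cfsg.Agent.H621.Half.PsuPt

/-!
# `(2+1/2)`-transitive groups: the row `PSU₃(q)` (task 1263, helper621)
-/

set_option autoImplicit false
set_option linter.unusedSectionVars false

namespace Cfsg.Agent.H621.HalfT

open MulAction Matrix Cfsg Cfsg.Agent.H96.TISylow Cfsg.Agent.LieClassical.HermBasic Cfsg.Agent.H488.PsuTwo
open Cfsg.Agent.H384.TwoTrans Cfsg.Agent.H386.HalfTwo Psu

universe u v

variable {F : Type} [Field F] [Fintype F] {q : ℕ}

/-- an element of `SU₃(q)` with three eigenvectors in general position, the first, second and third isotropic, is a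
scalar -/
theorem scalar_of_three (hF : Fintype.card F = q ^ 2) {g : SU 3 F q} {v w u : Fin 3 → F} {α β γ : F}
    (hvw : hermForm 3 F q v w ≠ 0) (hvu : hermForm 3 F q v u ≠ 0) (hwu : hermForm 3 F q w u ≠ 0)
    (h1 : g.1.1 *ᵥ v = α • v) (h2 : g.1.1 *ᵥ w = β • w) (h3 : g.1.1 *ᵥ u = γ • u) : α = β ∧ α = γ := by
  have key : ∀ {x y : Fin 3 → F} {a b : F}, hermForm 3 F q x y ≠ 0 → g.1.1 *ᵥ x = a • x → g.1.1 *ᵥ y = b • y →
      a * b ^ q = 1 := by
    intro x y a b hxy hx hy
    have h : hermForm 3 F q (g.1.1 *ᵥ x) (g.1.1 *ᵥ y) = hermForm 3 F q x y := herm_map g.2 x y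
    rw [hx, hy, herm_smul_left, herm_smul_right] at h
    have h' : (a * b ^ q - 1) * hermForm 3 F q x y = 0 := by
      rw [sub_mul, one_mul, mul_assoc, h, sub_self]
    rcases mul_eq_zero.1 h' with h'' | h''
    · exact sub_eq_zero.1 h''
    · exact absurd h'' hxy
  have e1 := key hvw h1 h2
  have e2 := key hvu h1 h3
  have e3 := key hwu h2 h3
  have hγ : γ ^ q ≠ 0 := fun h => by rw [h, mul_zero] at e2; exact zero_ne_one e2
  have hα : α ≠ 0 := fun h => by rw [h, zero_mul] at e2; exact zero_ne_one e2
  refine ⟨mul_right_cancel₀ hγ (e2.trans e3.symm), ?_⟩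
  have h4 : α * β ^ q = α * γ ^ q := e1.trans e2.symm
  have h5 := (pow_q_inj hF).1 (mul_left_cancel₀ hα h4)
  rw [← h5]
  exact mul_right_cancel₀ hγ (e2.trans e3.symm)

/-- the vectors of the line `⟨v, w⟩` -/
theorem card_roots {h k : F} (hk : k ≠ 0) (hq : 2 ≤ q) : {z : F | z ≠ 0 ∧ z ^ q * h + z * k = 0}.ncard ≤ q - 1 := by
  classical
  by_cases hh : h = 0
  · have : {z : F | z ≠ 0 ∧ z ^ q * h + z * k = 0} = ∅ := by
      ext z
      simp only [Set.mem_ofPred_eq, Set.mem_empty_iff_false, iff_false, not_and]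
      intro hz h1
      rw [hh, mul_zero, zero_add] at h1
      rcases mul_eq_zero.1 h1 with h2 | h2
      · exact hz h2
      · exact hk h2
    rw [this, Set.ncard_empty]
    exact Nat.zero_le _
  let P : Polynomial F := Polynomial.X ^ (q - 1) - Polynomial.C (-(k / h))
  have hP : P ≠ 0 := Polynomial.X_pow_sub_C_ne_zero (by omega) _
  have hsub : {z : F | z ≠ 0 ∧ z ^ q * h + z * k = 0} ⊆ ↑P.roots.toFinset := by
    rintro z ⟨hz, h1⟩
    rw [Finset.mem_coe, Multiset.mem_toFinset, Polynomial.mem_roots hP]
    show Polynomial.eval z P = 0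
    simp only [P, Polynomial.eval_sub, Polynomial.eval_pow, Polynomial.eval_X, Polynomial.eval_C]
    have h2 : z ^ q = z ^ (q - 1) * z := by
      rw [← pow_succ]
      congr 1
      omega
    rw [h2] at h1
    have h3 : z * (z ^ (q - 1) * h + k) = 0 := by linear_combination h1
    rcases mul_eq_zero.1 h3 with h4 | h4
    · exact absurd h4 hz
    · field_simp
      linear_combination h4
  calc {z : F | z ≠ 0 ∧ z ^ q * h + z * k = 0}.ncard ≤ (↑P.roots.toFinset : Set F).ncard :=
        Set.ncard_le_ncard hsub (Finset.finite_toSet _)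
    _ = P.roots.toFinset.card := Set.ncard_coe_finset _
    _ ≤ P.natDegree := P.roots.toFinset_card_le.trans (P.card_roots')
    _ = q - 1 := Polynomial.natDegree_X_pow_sub_C

variable {G : Type u} {Ω : Type v} [Group G] [MulAction G Ω] {T : Subgroup G} {m : ℕ}

/-- **Row `PSU₃(q)`**. -/
theorem psu (A : AS G Ω T) (H : Half G Ω m) (hq : 3 ≤ q) (hF : Fintype.card F = q ^ 2)
    (e : Nonempty (T ≃* Cfsg.PSU 3 F q)) (hn : Nat.card Ω = q ^ 3 + 1) : False := by
  classical
  obtain ⟨e⟩ := e
  have := A.finG
  have := A.finΩ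
  have := A.finT
  have := A.transitive
  have hs := A.simple
  have := A.nontrivialΩ
  have hq2 : 2 ≤ q := by omega
  obtain ⟨a, b, hab⟩ := exists_pair_ne Ω
  choose vec hvec using exists_at' (Ω := Ω) hF hq2 e hs hn
  -- not proportional for different points
  have hnp : ∀ x y : Ω, x ≠ y → hermForm 3 F q (vec x) (vec y) ≠ 0 := by
    intro x y hxy
    refine herm_ne hF (hvec y).ne (hvec y).iso (hvec x).iso ?_
    rintro ⟨c, hc⟩
    have hc0 : c ≠ 0 := by
      rintro rfl
      rw [zero_smul] at hc
      exact (hvec x).ne hc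
    have h1 := (hvec y).smul hc0
    rw [← hc] at h1
    exact hxy ((hvec x).unique h1 hF hq2 hs hn)
  set v := vec a with hv
  set w := vec b with hw
  -- the line
  let L : Set Ω := {x | x ≠ a ∧ x ≠ b ∧ ∃ s t : F, vec x = s • v + t • w}
  have hLcard : L.ncard ≤ q - 1 := by
    refine le_trans ?_ (card_roots (q := q) (h := hermForm 3 F q v w) (k := hermForm 3 F q w v)
      (hnp b a hab.symm) hq2)
    choose! s t hst using fun x (hx : x ∈ L) => hx.2.2
    have hs0 : ∀ x ∈ L, s x ≠ 0 := by
      intro x hx h0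
      have h1 := hst x hx
      rw [h0, zero_smul, zero_add] at h1
      apply hnp x b hx.2.1
      rw [h1, herm_smul_left, (hvec b).iso, mul_zero]
    have ht0 : ∀ x ∈ L, t x ≠ 0 := by
      intro x hx h0
      have h1 := hst x hx
      rw [h0, zero_smul, add_zero] at h1
      apply hnp x a hx.1
      rw [h1, herm_smul_left, (hvec a).iso, mul_zero]
    refine Set.ncard_le_ncard_of_injOn (fun x => t x / s x) ?_ ?_ (Set.toFinite _)
    · intro x hx
      have hsx := hs0 x hx
      refine ⟨div_ne_zero (ht0 x hx) hsx, ?_⟩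
      have h1 := (hvec x).iso
      rw [hst x hx, herm_add_left, herm_add_right hF, herm_add_right hF, herm_smul_left, herm_smul_left,
        herm_smul_right, herm_smul_right, herm_smul_left, herm_smul_left, herm_smul_right, herm_smul_right,
        (hvec a).iso, (hvec b).iso] at h1
      show (t x / s x) ^ q * hermForm 3 F q v w + t x / s x * hermForm 3 F q w v = 0
      have hsq : s x ^ q ≠ 0 := pow_ne_zero _ hsx
      rw [div_pow]
      field_simp
      linear_combination h1
    · intro x hx y hy hxy
      have h1 : t x / s x = t y / s y := hxy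
      have hsx := hs0 x hx
      have hsy := hs0 y hy
      have h2 : vec y = (s y / s x) • vec x := by
        rw [hst x hx, hst y hy, smul_add, smul_smul, smul_smul]
        congr 2
        · field_simp
        · rw [div_mul_eq_mul_div, mul_div_assoc, h1]
          field_simp
      have h3 := (hvec x).smul (div_ne_zero hsy hsx)
      rw [← h2] at h3
      exact h3.unique (hvec y) hF hq2 hs hn
  -- the fixators
  have heig : ∀ (g : SU 3 F q) (x : Ω), pi e g • x = x → ∃ c : F, g.1.1 *ᵥ vec x = c • vec x :=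
    fun g x hx => ((hvec x).iff g).1 hx
  refine clash A H hab (L := L) ?_ (fun x hx => ⟨hx.1, hx.2.1⟩) ?_ ?_ ?_ ?_
  · -- nonempty
    obtain ⟨c, hc0, hc⟩ := exists_trace_zero_ne hF
    have hk : hermForm 3 F q w v ≠ 0 := hnp b a hab.symm
    have hz : c / hermForm 3 F q w v ≠ 0 := div_ne_zero hc0 hk
    set z := c / hermForm 3 F q w v with hzd
    have hne : v + z • w ≠ 0 := by
      intro h0
      have h1 : hermForm 3 F q (v + z • w) v = 0 := by rw [h0, herm_zero_left]
      rw [herm_add_left, herm_smul_left, (hvec a).iso, zero_add] at h1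
      exact (mul_ne_zero hz hk) h1
    have hiso : hermForm 3 F q (v + z • w) (v + z • w) = 0 := by
      rw [herm_add_left, herm_add_right hF, herm_add_right hF, herm_smul_left, herm_smul_left, herm_smul_right,
        herm_smul_right, (hvec a).iso, (hvec b).iso]
      have h1 : z ^ q * hermForm 3 F q v w = c ^ q := by
        rw [hzd, div_pow, ← herm_swap hF w v]
        have h2 : hermForm 3 F q v w ≠ 0 := hnp a b hab
        field_simp
      have h2 : z * hermForm 3 F q w v = c := by
        rw [hzd, div_mul_cancel₀ _ hk]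
      rw [h1, h2]
      linear_combination hc
    obtain ⟨x, hx⟩ := exists_of_vec (Ω := Ω) hF hq2 e hs hn hne hiso
    obtain ⟨d, hd⟩ := hx.prop hF (hvec x)
    have hd0 : d ≠ 0 := by
      rintro rfl
      rw [zero_smul] at hd
      exact (hvec x).ne hd
    refine ⟨x, ?_, ?_, d, d * z, ?_⟩
    · rintro rfl
      have h1 : hermForm 3 F q (vec x) (vec x) = 0 := (hvec x).iso
      nth_rw 1 [hd] at h1
      rw [herm_smul_left, herm_add_left, herm_smul_left, ← hv, (hvec x).iso, zero_add] at h1
      exact (mul_ne_zero hd0 (mul_ne_zero hz hk)) h1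
    · rintro rfl
      have h1 : hermForm 3 F q (vec x) (vec x) = 0 := (hvec x).iso
      nth_rw 1 [hd] at h1
      rw [herm_smul_left, herm_add_left, herm_smul_left, ← hw, (hvec x).iso, mul_zero, add_zero] at h1
      exact (mul_ne_zero hd0 (hnp a x hab)) h1
    · rw [hd, smul_add, smul_smul]
  · -- invariance
    intro t hta htb x hx
    obtain ⟨g, rfl⟩ := pi_surj e t
    obtain ⟨α, hα⟩ := heig g a hta
    obtain ⟨β, hβ⟩ := heig g b htb
    obtain ⟨hxa, hxb, r, s, hrs⟩ := hx
    obtain ⟨c, hc⟩ := ((hvec x).act g).prop hF (hvec (pi e g • x))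
    refine ⟨?_, ?_, c * (r * α), c * (s * β), ?_⟩
    · intro h
      apply hxa
      rw [← hta] at h
      exact smul_left_cancel _ h
    · intro h
      apply hxb
      rw [← htb] at h
      exact smul_left_cancel _ h
    · rw [hc, hrs, mulVec_add, mulVec_smul, mulVec_smul, hα, hβ, smul_add, smul_smul, smul_smul, smul_smul, smul_smul,
        mul_assoc, mul_assoc]
  · -- regular outside the line
    intro x hxa hxb hxL t hta htb htx
    obtain ⟨g, rfl⟩ := pi_surj e t
    obtain ⟨α, hα⟩ := heig g a hta
    obtain ⟨β, hβ⟩ := heig g b htb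
    obtain ⟨γ, hγ⟩ := heig g x htx
    obtain ⟨h1, h2⟩ := scalar_of_three hF (hnp a b hab) (hnp a x hxa.symm) (hnp b x hxb.symm) hα hβ hγ
    have hli : LinearIndependent F ![v, w, vec x] := by
      rw [Fintype.linearIndependent_iff]
      intro f hf
      rw [Fin.sum_univ_three] at hf
      have hf' : f 0 • v + f 1 • w + f 2 • vec x = 0 := hf
      have hf2 : f 2 = 0 := by
        by_contra h0
        apply hxL
        refine ⟨hxa, hxb, -(f 0) / f 2, -(f 1) / f 2, ?_⟩
        have h3 : vec x = (f 2)⁻¹ • (f 2 • vec x) := by rw [smul_smul, inv_mul_cancel₀ h0, one_smul]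
        have h4 : f 2 • vec x = -(f 0 • v + f 1 • w) := by
          rw [eq_neg_iff_add_eq_zero, add_comm]
          exact hf'
        rw [h3, h4, smul_neg, smul_add, smul_smul, smul_smul, neg_add, ← neg_smul, ← neg_smul]
        congr 2 <;> ring
      rw [hf2, zero_smul, add_zero] at hf'
      have hf1 : f 1 = 0 := by
        have h3 := congrArg (fun z => hermForm 3 F q z v) hf'
        simp only [herm_add_left, herm_smul_left, herm_zero_left] at h3
        rw [hv, (hvec a).iso, mul_zero, zero_add] at h3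
        rcases mul_eq_zero.1 h3 with h4 | h4
        · exact h4
        · exact absurd h4 (hnp b a hab.symm)
      rw [hf1, zero_smul, add_zero] at hf'
      have hf0 : f 0 = 0 := by
        rcases smul_eq_zero.1 hf' with h4 | h4
        · exact h4
        · exact absurd h4 (hvec a).ne
      intro i
      fin_cases i
      · exact hf0
      · exact hf1
      · exact hf2
    have hall : ∀ y : Fin 3 → F, g.1.1 *ᵥ y = α • y := by
      let B := basisOfLinearIndependentOfCardEqFinrank hli (by simp)
      have h3 : (Matrix.mulVecLin g.1.1 : (Fin 3 → F) →ₗ[F] (Fin 3 → F)) = α • LinearMap.id := by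
        apply B.ext
        intro i
        have hB : B i = ![v, w, vec x] i := by
          simp only [B]
          rw [coe_basisOfLinearIndependentOfCardEqFinrank]
        rw [hB]
        fin_cases i
        · exact hα
        · show g.1.1 *ᵥ w = α • w
          rw [h1]; exact hβ
        · show g.1.1 *ᵥ vec x = α • vec x
          rw [h2]; exact hγ
      intro y
      have := LinearMap.congr_fun h3 y
      exact this
    have hcen : g ∈ Subgroup.center (SU 3 F q) := ClassicalGeometry.PSUAutBasic.mem_center_of_act hall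
    show e.symm (ClassicalGeometry.PSUAutBasic.pr 3 F q g) = 1
    rw [ClassicalGeometry.PSUAutBasic.pr_eq_one_iff.2 hcen, map_one]
  · -- the order
    have hT := Cfsg.Agent.H438.ConstFix.psu_card hF (by omega : 1 ≤ q)
    rw [← Nat.card_congr e.toEquiv, ← A.card_mul a, ← A.card_orbit_mul a b, hn] at hT
    have horb : Nat.card (orbit (stabilizer T a) b) ≤ q ^ 3 := by
      have hq3 : 0 < q ^ 3 := Nat.pow_pos (by omega)
      have h1 := Nat.le_of_dvd (by omega) (A.card_orbit_dvd hab)
      omega
    set o := Nat.card (orbit (stabilizer T a) b)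
    set s := Nat.card ↥(stabilizer T a ⊓ stabilizer T b)
    have hd3 : Nat.gcd 3 (q + 1) ≤ 3 := Nat.gcd_le_left _ (by norm_num)
    set d := Nat.gcd 3 (q + 1)
    by_contra hcon
    have hs1 : s ≤ q - 1 := by omega
    have h1 : d * (o * s) = q ^ 3 * (q ^ 2 - 1) := by
      apply Nat.eq_of_mul_eq_mul_left (show 0 < q ^ 3 + 1 by positivity)
      linear_combination hT
    have h2 : d * (o * s) ≤ 3 * (q ^ 3 * (q - 1)) :=
      Nat.mul_le_mul hd3 (Nat.mul_le_mul horb hs1)
    have h3 : q ^ 2 - 1 = (q + 1) * (q - 1) := by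
      obtain ⟨x, rfl⟩ : ∃ x, q = x + 1 := ⟨q - 1, by omega⟩
      rw [Nat.add_sub_cancel]
      have : (x + 1) ^ 2 = (x + 1 + 1) * x + 1 := by ring
      omega
    rw [h1, h3] at h2
    have h4 : q ^ 3 * ((q + 1) * (q - 1)) = (q + 1) * (q ^ 3 * (q - 1)) := by ring
    rw [h4] at h2
    have h5 : 0 < q ^ 3 * (q - 1) := Nat.mul_pos (by positivity) (by omega)
    have h6 := Nat.le_of_mul_le_mul_right h2 h5
    omega
  · -- a point outside
    by_contra hcon
    push Not at hcon
    have h1 : (Set.univ : Set Ω) ⊆ {a} ∪ ({b} ∪ L) := by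
      intro x _
      by_cases hxa : x = a
      · exact Or.inl hxa
      by_cases hxb : x = b
      · exact Or.inr (Or.inl hxb)
      · exact Or.inr (Or.inr (hcon x hxa hxb))
    have h2 := Set.ncard_le_ncard h1 (Set.toFinite _)
    rw [Set.ncard_univ, hn] at h2
    have h3 := Set.ncard_union_le {a} ({b} ∪ L)
    have h4 := Set.ncard_union_le {b} L
    rw [Set.ncard_singleton] at h3 h4
    have h5 : q ^ 3 = q * q ^ 2 := by ring
    have h6 : 3 ^ 2 ≤ q ^ 2 := Nat.pow_le_pow_left hq 2
    have h7 : q * 9 ≤ q * q ^ 2 := Nat.mul_le_mul_left q h6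
    omega

end Cfsg.Agent.H621.HalfT
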