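import Cfsg.Agent.H621.Half.Clash
import Cfsg.Agent.H88.RkSz

/-!
# `(2+1/2)`-transitive groups: the row `Sz(q)` (task 1264, helper621)
-/

set_option autoImplicit false
set_option linter.unusedSectionVars false

namespace Cfsg.Agent.H621.HalfT.Suz

open MulAction Cfsg.Agent.LieRecognition.SzMatrix Cfsg.Agent.LieRecognition Cfsg.Agent.H88
open Cfsg.Agent.H384.TwoTrans Cfsg.Agent.H386.HalfTwo

universe u v

variable {F : Type} [Field F] [Finite F] {θ : F →+* F} {e : ℕ}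

theorem pow_four_eq {X : Type*} [Group X] (x : X) : x ^ 4 = (x * x) * (x * x) := by
  rw [pow_succ, pow_succ, pow_succ, pow_one, mul_assoc (x * x)]

/-- the points of the action of degree `q² + 1` -/
theorem exists_pts (H : Good F θ e) {k : ℕ} (hk : k ≠ 0) (hF : Nat.card F = 2 ^ k) {X : Type v} [Finite X]
    [MulAction ↥(Cfsg.Lie.Sz F e) X] (hX : IsPretransitive ↥(Cfsg.Lie.Sz F e) X) (hn : Nat.card X = Nat.card F ^ 2 + 1) :
    ∃ a b : X, a ≠ b ∧ (∀ g : ↥(Cfsg.Lie.Sz F e), g • a = a ↔ g ∈ H.borel) ∧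
      (∀ g : ↥(Cfsg.Lie.Sz F e), g • b = b ↔ (H.w)⁻¹ * g * H.w ∈ H.borel) ∧
      ∀ x : X, x ≠ a → ∃ s t : F, H.u s t • b = x := by
  have R := RkSz.rk H hk hF
  obtain ⟨E, hE⟩ := R.exists_equiv hX (by rw [H.card_unip, hn])
  refine ⟨E.symm (QuotientGroup.mk 1), E.symm (QuotientGroup.mk H.w), ?_, ?_, ?_, ?_⟩
  · intro h
    exact Rk.mk_ne R.data (E.symm.injective h).symm
  · intro g
    rw [← Rk.mem_stab_one (H := H.borel), ← E.injective.eq_iff, hE, Equiv.apply_symm_apply]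
  · intro g
    rw [← Rk.mem_stab_w (H := H.borel), ← E.injective.eq_iff, hE, Equiv.apply_symm_apply]
  · intro x hx
    obtain ⟨s, hs⟩ := R.data.exists_eq (E x) (by
      intro h
      apply hx
      rw [← h, E.symm_apply_apply])
    obtain ⟨a, b, hab⟩ := (H.mem_unip_iff s.1).1 s.2
    refine ⟨a, b, ?_⟩
    apply E.injective
    rw [hE, Equiv.apply_symm_apply, ← hab]
    exact hs

variable {G : Type u} {Ω : Type v} [Group G] [MulAction G Ω] {T : Subgroup G} {m : ℕ}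

/-- **Row `Sz(q)`**: `G = Sz(q)`. -/
theorem main (A : AS G Ω T) (H : Half G Ω m) (Z : Good F θ e) {k : ℕ} (hk : k ≠ 0) (hF : Nat.card F = 2 ^ k)
    (f : T ≃* ↥(Cfsg.Lie.Sz F e)) (hn : Nat.card Ω = Nat.card F ^ 2 + 1) : T = ⊤ := by
  classical
  have := A.finG
  have := A.finΩ
  have := A.finT
  have := A.faithful
  have hTt := A.transitive
  have hTn := A.normal
  have hq : 2 ≤ Nat.card F := by
    rw [hF]
    calc 2 = 2 ^ 1 := rfl
      _ ≤ 2 ^ k := Nat.pow_le_pow_right (by norm_num) (by omega)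
  -- the embedding
  let ι : ↥(Cfsg.Lie.Sz F e) →* G := T.subtype.comp f.symm.toMonoidHom
  have hιT : ∀ g, ι g ∈ T := fun g => (f.symm g).2
  have hιinj : Function.Injective ι := fun x y h => f.symm.injective (Subtype.ext h)
  have hιsurj : ∀ t ∈ T, ∃ g, ι g = t := fun t ht => ⟨f ⟨t, ht⟩, by
    show ((f.symm (f ⟨t, ht⟩) : T) : G) = t
    rw [f.symm_apply_apply]⟩
  obtain ⟨a, b, hab, ha, hb, hall⟩ : ∃ a b : Ω, a ≠ b ∧ (∀ g : ↥(Cfsg.Lie.Sz F e), ι g • a = a ↔ g ∈ Z.borel) ∧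
      (∀ g : ↥(Cfsg.Lie.Sz F e), ι g • b = b ↔ (Z.w)⁻¹ * g * Z.w ∈ Z.borel) ∧
      ∀ x : Ω, x ≠ a → ∃ s t : F, ι (Z.u s t) • b = x := by
    let act : MulAction ↥(Cfsg.Lie.Sz F e) Ω := MulAction.compHom Ω f.symm.toMonoidHom
    have hX : IsPretransitive ↥(Cfsg.Lie.Sz F e) Ω := by
      refine ⟨fun x y => ?_⟩
      obtain ⟨t, ht⟩ := hTt.exists_smul_eq x y
      refine ⟨f t, ?_⟩
      show f.symm (f t) • x = y
      rw [f.symm_apply_apply, ht]
    exact exists_pts Z hk hF hX hn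
  have hR := RkSz.rk Z hk hF
  -- regularity of the unipotent radical
  have hreg : ∀ s t s' t' : F, ι (Z.u s t) • b = ι (Z.u s' t') • b → s = s' ∧ t = t' := by
    intro s t s' t' h
    have h1 : ι ((Z.u s' t')⁻¹ * Z.u s t) • b = b := by
      rw [map_mul, map_inv, mul_smul, h, inv_smul_smul]
    rw [hb] at h1
    have h2 := hR.data.inter _ (Z.unip.mul_mem (Z.unip.inv_mem (Z.u_mem_unip s' t')) (Z.u_mem_unip s t)) h1
    obtain ⟨h3, h4⟩ := Z.u_inj (inv_mul_eq_one.1 h2)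
    exact ⟨h3.symm, h4.symm⟩
  have hua : ∀ s t : F, ι (Z.u s t) • a = a := fun s t => (ha _).2 (Z.u_mem_borel s t)
  -- conjugation by an element of `G_a`
  have hconj : ∀ g : G, g • a = a → ∀ s t : F, ∃ s' t' : F, g * ι (Z.u s t) * g⁻¹ = ι (Z.u s' t') ∧ (s = 0 → s' = 0) := by
    intro g hg s t
    obtain ⟨h, hh⟩ := hιsurj _ (hTn.conj_mem _ (hιT (Z.u s t)) g)
    have hg' : g⁻¹ • a = a := by rw [inv_smul_eq_iff, hg]
    have h1 : h ∈ Z.borel := by
      rw [← ha, hh, mul_smul, mul_smul, hg', hua, hg]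
    have hsq : Z.u s t * Z.u s t = Z.u 0 (s * θ s) := by
      rw [Z.u_mul, Z.add_self, Z.add_self, zero_add]
    have h4 : (Z.u s t) ^ 4 = 1 := by
      rw [pow_four_eq, hsq, Z.u_mul, Z.add_self, Z.add_self, zero_mul, add_zero, Z.u_zero]
    have h5 : h ^ 2 ^ 2 = 1 := by
      apply hιinj
      rw [map_pow, hh, conj_pow, ← map_pow, show 2 ^ 2 = 4 by norm_num, h4, map_one, mul_one, mul_inv_cancel]
    obtain ⟨s', t', rfl⟩ := (Z.mem_unip_iff h).1 (hR.mem_of_pow h1 h5)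
    refine ⟨s', t', hh.symm, ?_⟩
    rintro rfl
    have h6 : Z.u s' t' * Z.u s' t' = 1 := by
      apply hιinj
      rw [map_mul, hh]
      have h7 : g * ι (Z.u 0 t) * g⁻¹ * (g * ι (Z.u 0 t) * g⁻¹) = g * ι (Z.u 0 t * Z.u 0 t) * g⁻¹ := by
        rw [map_mul]; group
      rw [h7, hsq, zero_mul, Z.u_zero, map_one, mul_one, mul_inv_cancel]
    rw [Z.u_mul, Z.add_self, Z.add_self, zero_add, ← Z.u_zero] at h6
    have h8 := (Z.u_inj h6).2
    rcases mul_eq_zero.1 h8 with h9 | h9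
    · exact h9
    · exact (map_eq_zero θ).1 h9
  -- the torus
  have hdab : ∀ k : Fˣ, ι (Z.d k) • a = a ∧ ι (Z.d k) • b = b := by
    intro k
    refine ⟨(ha _).2 (Z.d_mem_borel k), (hb _).2 ?_⟩
    rw [RkSz.w_conj_d]
    exact Z.d_mem_borel _
  have htor : ∀ t ∈ T, t • a = a → t • b = b → ∃ k : Fˣ, t = ι (Z.d k) := by
    intro t ht h1 h2
    obtain ⟨g, rfl⟩ := hιsurj t ht
    have h3 : g ∈ tor Z.borel Z.w := mem_tor.2 ⟨(ha g).1 h1, (hb g).1 h2⟩
    rw [RkSz.tor_eq] at h3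
    obtain ⟨k, hk⟩ := h3
    exact ⟨k, by rw [← hk]; rfl⟩
  have hdu : ∀ (k : Fˣ) (s t : F), ι (Z.d k) * ι (Z.u s t) * (ι (Z.d k))⁻¹ =
      ι (Z.u (s * k ^ 2 * (θ k)⁻¹) (t * θ k)) := by
    intro k s t
    rw [← map_mul, Z.d_mul_u, map_mul, mul_inv_cancel_right]
  have hNN : Nat.card (NN T a b) = Nat.card F - 1 := by
    rw [← Nat.card_units]
    symm
    refine Nat.card_congr (Equiv.ofBijective
      (fun k : Fˣ => (⟨ι (Z.d k), hιT _, mem_GG.2 (hdab k)⟩ : NN T a b)) ⟨?_, ?_⟩)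
    · intro k l h
      exact Z.d_inj (hιinj (congrArg (fun z : NN T a b => (z : G)) h))
    · rintro ⟨t, ht1, ht2⟩
      have h := mem_GG.1 ht2
      obtain ⟨k, hk⟩ := htor t ht1 h.1 h.2
      exact ⟨k, Subtype.ext hk.symm⟩
  have hdx : ∀ (k : Fˣ) (s t : F), ι (Z.d k) • ι (Z.u s t) • b =
      ι (Z.u (s * k ^ 2 * (θ k)⁻¹) (t * θ k)) • b := by
    intro k s t
    rw [← hdu, mul_smul, mul_smul, inv_smul_eq_iff.2 (hdab k).2.symm]
  have hfree : ∀ x, x ≠ a → x ≠ b → ∀ k : Fˣ, ι (Z.d k) • x = x → k = 1 := by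
    intro x hxa hxb k hk
    obtain ⟨s, t, rfl⟩ := hall x hxa
    rw [hdx] at hk
    obtain ⟨h1, h2⟩ := hreg _ _ _ _ hk
    by_cases hs : s = 0
    · have ht : t ≠ 0 := by
        rintro rfl
        apply hxb
        rw [hs, Z.u_zero, map_one, one_smul]
      have h3 : θ (k : F) = 1 := mul_left_cancel₀ ht (by rw [h2, mul_one])
      exact Units.ext (θ.injective (by rw [h3, Units.val_one, map_one]))
    · apply RkSz.diag_ker Z
      apply mul_left_cancel₀ hs
      rw [mul_one, ← mul_assoc]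
      exact h1
  have hlen : ∀ x, x ≠ a → x ≠ b → Nat.card (orbit (NN T a b) x) = Nat.card F - 1 := by
    intro x hxa hxb
    have h1 : stabilizer (NN T a b) x = ⊥ := by
      rw [eq_bot_iff]
      intro t ht
      have h2 := mem_GG.1 t.2.2
      obtain ⟨k, hk⟩ := htor t.1 t.2.1 h2.1 h2.2
      have h3 : ι (Z.d k) • x = x := by rw [← hk]; exact ht
      have h4 := hfree x hxa hxb k h3
      rw [h4, Z.d_one, map_one] at hk
      exact Subtype.ext hk
    have h2 := (stabilizer (NN T a b) x).index_mul_card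
    rw [h1, Subgroup.card_bot, mul_one, ← h1, MulAction.index_stabilizer, hNN] at h2
    rwa [Nat.card_coe_set_eq]
  have hub : ∀ s t : F, ι (Z.u s t) • b ≠ a := by
    intro s t h
    apply hab
    rw [← hua s t] at h
    exact (smul_left_cancel _ h).symm
  have hgu : ∀ g : G, g • b = b → ∀ s t s' t' : F, g * ι (Z.u s t) * g⁻¹ = ι (Z.u s' t') →
      g • ι (Z.u s t) • b = ι (Z.u s' t') • b := by
    intro g hg s t s' t' h
    rw [← h, mul_smul, mul_smul, inv_smul_eq_iff.2 hg.symm]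
  have hm : m = Nat.card F - 1 := by
    let L : Set Ω := (fun t : F => ι (Z.u 0 t) • b) '' {t | t ≠ 0}
    have hLc : L.ncard = Nat.card F - 1 := by
      rw [Set.ncard_image_of_injective _ (fun t t' h => (hreg 0 t 0 t' h).2)]
      have h2 : ({x : F | x ≠ 0} : Set F) = ({0} : Set F)ᶜ := by
        ext x; simp
      rw [h2, Set.ncard_compl, Set.ncard_singleton]
    have hd : m ∣ L.ncard := by
      refine H.dvd_ncard hab L ?_ ?_
      · rintro _ ⟨t, ht, rfl⟩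
        refine ⟨hub 0 t, fun h => ht ?_⟩
        have h1 : ι (Z.u 0 t) • b = ι (Z.u 0 0) • b := by
          rw [Z.u_zero, map_one, one_smul]
          exact h
        exact (hreg _ _ _ _ h1).2
      · rintro g hga hgb _ ⟨t, ht, rfl⟩
        obtain ⟨s', t', h1, h2⟩ := hconj g hga 0 t
        obtain rfl := h2 rfl
        refine ⟨t', ?_, (hgu g hgb _ _ _ _ h1).symm⟩
        rintro rfl
        apply ht
        rw [Z.u_zero, map_one, mul_inv_eq_one, mul_eq_left, ← map_one ι] at h1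
        have h3 := hιinj h1
        rw [← Z.u_zero] at h3
        exact (Z.u_inj h3).2
    have h1 := Nat.le_of_dvd (by omega) hd
    have h3 : ι (Z.u 0 1) • b ≠ b := by
      intro h
      have h1 : ι (Z.u 0 1) • b = ι (Z.u 0 0) • b := by
        rw [Z.u_zero, map_one, one_smul]
        exact h
      exact one_ne_zero (hreg _ _ _ _ h1).2
    have h2 := H.le_of_le hab (hub 0 1) h3 (NN_le T a b)
    rw [hlen _ (hub 0 1) h3] at h2
    omega
  have horb : ∀ x, x ≠ a → x ≠ b → ∀ g : G, g • a = a → g • b = b → ∃ k : Fˣ, g • x = ι (Z.d k) • x := by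
    intro x hxa hxb g hga hgb
    have hsub : orbit (NN T a b) x ⊆ orbit (GG G a b) x := by
      rintro _ ⟨t, rfl⟩
      exact ⟨⟨t.1, t.2.2⟩, rfl⟩
    have heq : orbit (NN T a b) x = orbit (GG G a b) x := by
      apply Set.eq_of_subset_of_ncard_le hsub
      rw [← Nat.card_coe_set_eq, ← Nat.card_coe_set_eq, H.orb a b x hab hxa hxb, hlen x hxa hxb, hm]
    have hmem : g • x ∈ orbit (GG G a b) x := ⟨⟨g, mem_GG.2 ⟨hga, hgb⟩⟩, rfl⟩
    rw [← heq] at hmem
    obtain ⟨t, ht⟩ := hmem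
    have h2 := mem_GG.1 t.2.2
    obtain ⟨k, hk⟩ := htor t.1 t.2.1 h2.1 h2.2
    exact ⟨k, by rw [← hk]; exact ht.symm⟩
  have hkey : ∀ g : G, g • a = a → g • b = b → g • ι (Z.u 1 0) • b = ι (Z.u 1 0) • b → g = 1 := by
    intro g hga hgb hgc
    have hu1 : g * ι (Z.u 1 0) * g⁻¹ = ι (Z.u 1 0) := by
      obtain ⟨s', t', h1, -⟩ := hconj g hga 1 0
      rw [hgu g hgb _ _ _ _ h1] at hgc
      obtain ⟨h2, h3⟩ := hreg _ _ _ _ hgc
      rw [h1, h2, h3]
    have hz : ∀ t, g * ι (Z.u 0 t) * g⁻¹ = ι (Z.u 0 t) := by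
      intro t
      obtain ⟨s', t', h1, h2⟩ := hconj g hga 0 t
      obtain rfl := h2 rfl
      have h3 : ∀ r : F, Z.u 1 0 * Z.u 0 r = Z.u 1 r := by
        intro r
        rw [Z.u_mul, map_zero, mul_zero, add_zero, add_zero, zero_add]
      have h4 : g * ι (Z.u 1 t) * g⁻¹ = ι (Z.u 1 t') := by
        have h5 : g * ι (Z.u 1 t) * g⁻¹ = (g * ι (Z.u 1 0) * g⁻¹) * (g * ι (Z.u 0 t) * g⁻¹) := by
          rw [← h3 t, map_mul]; group
        rw [h5, hu1, h1, ← map_mul, h3]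
      have h5 := hgu g hgb _ _ _ _ h4
      have h6 : ι (Z.u 1 t) • b ≠ b := by
        intro h
        have h1 : ι (Z.u 1 t) • b = ι (Z.u 0 0) • b := by
          rw [Z.u_zero, map_one, one_smul]
          exact h
        exact one_ne_zero (hreg _ _ _ _ h1).1
      obtain ⟨k, hk⟩ := horb _ (hub 1 t) h6 g hga hgb
      rw [h5, hdx] at hk
      obtain ⟨h7, h8⟩ := hreg _ _ _ _ hk
      have h9 : k = 1 := by
        apply RkSz.diag_ker Z
        rw [h7, one_mul]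
      rw [h1, h8, h9, Units.val_one, map_one, mul_one]
    have hd : ∀ k : Fˣ, g * ι (Z.d k) * g⁻¹ = ι (Z.d k) := by
      intro k
      have hga' : g⁻¹ • a = a := by rw [inv_smul_eq_iff, hga]
      have hgb' : g⁻¹ • b = b := by rw [inv_smul_eq_iff, hgb]
      obtain ⟨l, hl⟩ := htor _ (hTn.conj_mem _ (hιT (Z.d k)) g)
        (by rw [mul_smul, mul_smul, hga', (hdab k).1, hga])
        (by rw [mul_smul, mul_smul, hgb', (hdab k).2, hgb])
      have h1 : ι (Z.d l) * ι (Z.u 0 1) * (ι (Z.d l))⁻¹ = ι (Z.u 0 (θ k)) := by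
        have h2 : g⁻¹ * ι (Z.u 0 1) * g = ι (Z.u 0 1) := by
          have := hz 1
          nth_rw 1 [← this]
          group
        have h3 : g * ι (Z.d k) * g⁻¹ * ι (Z.u 0 1) * (g * ι (Z.d k) * g⁻¹)⁻¹ =
            g * (ι (Z.d k) * (g⁻¹ * ι (Z.u 0 1) * g) * (ι (Z.d k))⁻¹) * g⁻¹ := by group
        rw [← hl, h3, h2, hdu, zero_mul, zero_mul, one_mul, hz]
      rw [hdu, zero_mul, zero_mul, one_mul] at h1
      have h2 := (Z.u_inj (hιinj h1)).2
      have h3 : l = k := Units.ext (θ.injective h2)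
      rw [hl, h3]
    have hsur : Function.Surjective (fun k : Fˣ => ((Units.mk0 ((k : F) ^ 2 * (θ k)⁻¹)
        (mul_ne_zero (pow_ne_zero _ k.ne_zero) (inv_ne_zero (theta_ne_zero θ k)))) : Fˣ)) := by
      apply Finite.injective_iff_surjective.1
      intro k l h
      have h1 : (k : F) ^ 2 * (θ k)⁻¹ = (l : F) ^ 2 * (θ l)⁻¹ := congrArg Units.val h
      have h2 : k * l⁻¹ = 1 := by
        apply RkSz.diag_ker Z
        rw [Units.val_mul, Units.val_inv_eq_inv_val, map_mul, map_inv₀, mul_pow, mul_inv, inv_inv]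
        have h3 := theta_ne_zero θ k
        have h4 := theta_ne_zero θ l
        have h5 := l.ne_zero
        field_simp at h1 ⊢
        linear_combination h1
      exact mul_inv_eq_one.1 h2
    have hal : ∀ s t : F, g * ι (Z.u s t) * g⁻¹ = ι (Z.u s t) := by
      intro s t
      by_cases hs : s = 0
      · rw [hs]; exact hz t
      obtain ⟨k, hk⟩ := hsur (Units.mk0 s hs)
      have hk' : (k : F) ^ 2 * (θ k)⁻¹ = s := congrArg Units.val hk
      have h1 : ι (Z.u s 0) = ι (Z.d k) * ι (Z.u 1 0) * (ι (Z.d k))⁻¹ := by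
        rw [hdu, one_mul, zero_mul, hk']
      have h2 : Z.u s t = Z.u s 0 * Z.u 0 t := by
        rw [Z.u_mul, map_zero, mul_zero, add_zero, add_zero, zero_add]
      have h3 : g * ι (Z.u s 0) * g⁻¹ = ι (Z.u s 0) := by
        have h4 : g * (ι (Z.d k) * ι (Z.u 1 0) * (ι (Z.d k))⁻¹) * g⁻¹ =
            (g * ι (Z.d k) * g⁻¹) * (g * ι (Z.u 1 0) * g⁻¹) * (g * ι (Z.d k) * g⁻¹)⁻¹ := by group
        rw [h1, h4, hd, hu1]
      have h4 : g * ι (Z.u s t) * g⁻¹ = (g * ι (Z.u s 0) * g⁻¹) * (g * ι (Z.u 0 t) * g⁻¹) := by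
        rw [h2, map_mul]; group
      rw [h4, h3, hz, ← map_mul, ← h2]
    apply FaithfulSMul.eq_of_smul_eq_smul (α := Ω)
    intro x
    rw [one_smul]
    by_cases hxa : x = a
    · rw [hxa, hga]
    · obtain ⟨s, t, rfl⟩ := hall x hxa
      exact hgu g hgb _ _ _ _ (hal s t)
  rw [eq_top_iff]
  intro g _
  obtain ⟨t1, ht1⟩ := hTt.exists_smul_eq (g • a) a
  have ht1' : ((t1 : G) * g) • a = a := by rw [mul_smul]; exact ht1
  have hne : ((t1 : G) * g) • b ≠ a := by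
    intro h
    apply hab
    rw [← ht1'] at h
    exact (smul_left_cancel _ h).symm
  obtain ⟨s, t, hst⟩ := hall _ hne
  have h2a : ((ι (Z.u s t))⁻¹ * ((t1 : G) * g)) • a = a := by
    rw [mul_smul, ht1', inv_smul_eq_iff, hua]
  have h2b : ((ι (Z.u s t))⁻¹ * ((t1 : G) * g)) • b = b := by
    rw [mul_smul, inv_smul_eq_iff, hst]
  have hc : ι (Z.u 1 0) • b ≠ b := by
    intro h
    have h1 : ι (Z.u 1 0) • b = ι (Z.u 0 0) • b := by
      rw [Z.u_zero, map_one, one_smul]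
      exact h
    exact one_ne_zero (hreg _ _ _ _ h1).1
  obtain ⟨k, hk⟩ := horb _ (hub 1 0) hc _ h2a h2b
  have h3 := hkey ((ι (Z.d k))⁻¹ * ((ι (Z.u s t))⁻¹ * ((t1 : G) * g)))
    (by rw [mul_smul, h2a, inv_smul_eq_iff, (hdab k).1])
    (by rw [mul_smul, h2b, inv_smul_eq_iff, (hdab k).2])
    (by rw [mul_smul, hk, inv_smul_smul])
  have h4 : g = (t1 : G)⁻¹ * (ι (Z.u s t) * ι (Z.d k)) := by
    have h5 : g = (t1 : G)⁻¹ * (ι (Z.u s t) * ι (Z.d k)) *
      ((ι (Z.d k))⁻¹ * ((ι (Z.u s t))⁻¹ * ((t1 : G) * g))) := by group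
    rw [h3, mul_one] at h5
    exact h5
  rw [h4]
  exact T.mul_mem (T.inv_mem t1.2) (T.mul_mem (hιT _) (hιT _))

end Cfsg.Agent.H621.HalfT.Suz

namespace Cfsg.Agent.H621.HalfT

open MulAction Cfsg.Agent.LieRecognition.SzMatrix
open Cfsg.Agent.H384.TwoTrans Cfsg.Agent.H386.HalfTwo

universe u v

variable {G : Type u} {Ω : Type v} [Group G] [MulAction G Ω] {T : Subgroup G} {m : ℕ}

theorem sz (A : AS G Ω T) (H : Half G Ω m) {F : Type} [Field F] [Fintype F] {k : ℕ} (hk : 1 ≤ k)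
    (hF : Fintype.card F = 2 ^ (2 * k + 1)) (e : Nonempty (T ≃* ↥(Cfsg.Lie.Sz F (2 ^ (k + 1)))))
    (hn : Nat.card Ω = Fintype.card F ^ 2 + 1) : T = ⊤ ∨ m = 1 := by
  obtain ⟨e⟩ := e
  left
  exact Suz.main A H (good hF) (k := 2 * k + 1) (by omega) (by rw [Nat.card_eq_fintype_card, hF]) e
    (by rw [hn, Nat.card_eq_fintype_card])

end Cfsg.Agent.H621.HalfT
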