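import Cfsg.Agent.H386.HalfTwo.Base

/-!
# `(2+1/2)`-transitive groups: short and long orbits of the two-point stabiliser of the socle (helper621)
-/

set_option autoImplicit false

namespace Cfsg.Agent.H621.HalfT

open MulAction Cfsg.Agent.H384.TwoTrans Cfsg.Agent.H386.HalfTwo Cfsg.Agent.H488.ThreeHalf

universe u v

variable {G : Type u} {Ω : Type v} [Group G] [MulAction G Ω] {T : Subgroup G} {m : ℕ}

/-- the two-point stabiliser of `T` as a subgroup of `G` -/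
def NN (T : Subgroup G) (a b : Ω) : Subgroup G := T ⊓ GG G a b

theorem NN_le (T : Subgroup G) (a b : Ω) : NN T a b ≤ GG G a b := inf_le_right

theorem NN_conj (hT : T.Normal) {a b : Ω} {g : G} (hg : g ∈ GG G a b) (n : G) :
    n ∈ NN T a b ↔ g * n * g⁻¹ ∈ NN T a b := by
  have key : ∀ g ∈ GG G a b, ∀ n ∈ NN T a b, g * n * g⁻¹ ∈ NN T a b := by
    intro g hg n hn
    exact ⟨hT.conj_mem n hn.1 g, (GG G a b).mul_mem ((GG G a b).mul_mem hg hn.2) ((GG G a b).inv_mem hg)⟩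
  refine ⟨key g hg n, fun h => ?_⟩
  have := key g⁻¹ ((GG G a b).inv_mem hg) _ h
  have h2 : g⁻¹ * (g * n * g⁻¹) * g⁻¹⁻¹ = n := by group
  rwa [h2] at this

theorem card_NN (T : Subgroup G) (a b : Ω) :
    Nat.card (NN T a b) = Nat.card ↥(stabilizer T a ⊓ stabilizer T b) := by
  refine Nat.card_congr ⟨fun x => ⟨⟨x.1, x.2.1⟩, ?_⟩, fun x => ⟨x.1.1, ?_⟩, fun _ => rfl, fun _ => rfl⟩
  · have h := mem_GG.1 x.2.2
    exact ⟨h.1, h.2⟩
  · exact ⟨x.1.2, mem_GG.2 ⟨x.2.1, x.2.2⟩⟩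

/-- the invariant set argument -/
theorem clash (A : AS G Ω T) (H : Half G Ω m) {a b : Ω} (hab : a ≠ b) {L : Set Ω} (hne : L.Nonempty)
    (hL : ∀ x ∈ L, x ≠ a ∧ x ≠ b) (hinv : ∀ t : T, t • a = a → t • b = b → ∀ x ∈ L, t • x ∈ L)
    (hreg : ∀ x, x ≠ a → x ≠ b → x ∉ L → ∀ t : T, t • a = a → t • b = b → t • x = x → t = 1)
    (hcard : L.ncard < Nat.card ↥(stabilizer T a ⊓ stabilizer T b))
    (hc : ∃ c : Ω, c ≠ a ∧ c ≠ b ∧ c ∉ L) : False := by
  have := A.finG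
  have := A.finΩ
  have := A.faithful
  have hT := A.normal
  rw [← card_NN] at hcard
  have hlong : ∀ x, x ≠ a → x ≠ b → x ∉ L → Nat.card (orbit (NN T a b) x) = Nat.card (NN T a b) := by
    intro x hxa hxb hxL
    have h1 : stabilizer (NN T a b) x = ⊥ := by
      rw [eq_bot_iff]
      intro t ht
      have h2 := mem_GG.1 t.2.2
      have h3 := hreg x hxa hxb hxL ⟨t.1, t.2.1⟩ h2.1 h2.2 ht
      exact Subtype.ext (congrArg (fun z : T => (z : G)) h3)
    have h2 := (stabilizer (NN T a b) x).index_mul_card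
    rw [h1, Subgroup.card_bot, mul_one, ← h1, MulAction.index_stabilizer] at h2
    rwa [Nat.card_coe_set_eq]
  have hshort : ∀ x ∈ L, Nat.card (orbit (NN T a b) x) ≤ L.ncard := by
    intro x hx
    rw [← Nat.card_coe_set_eq]
    refine Nat.card_mono (Set.toFinite _) ?_
    rintro _ ⟨t, rfl⟩
    have h2 := mem_GG.1 t.2.2
    exact hinv ⟨t.1, t.2.1⟩ h2.1 h2.2 x hx
  have hd : m ∣ L.ncard := by
    refine H.dvd_ncard hab L hL ?_
    intro g hga hgb x hx
    by_contra hcon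
    have hgm : g ∈ GG G a b := mem_GG.2 ⟨hga, hgb⟩
    have h1 := card_orbit_smul (N := NN T a b) (g := g) (NN_conj hT hgm) x
    have h2 := hlong (g • x) (ne_of_smul hga (hL x hx).1) (ne_of_smul hgb (hL x hx).2) hcon
    have h3 := hshort x hx
    omega
  obtain ⟨c, hca, hcb, hcL⟩ := hc
  have h1 := H.le_of_le hab hca hcb (NN_le T a b)
  rw [hlong c hca hcb hcL] at h1
  have h2 : 0 < L.ncard := (Set.ncard_pos).2 hne
  have h3 := Nat.le_of_dvd h2 hd
  omega

end Cfsg.Agent.H621.HalfT
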